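import Mathlib

/-!
The automorphism group of the alternating group of degree five.
-/

set_option autoImplicit false

namespace Cfsg.Agent.Lib.Icosa

open Subgroup

/-- A five-cycle. -/
def five : alternatingGroup (Fin 5) := ⟨finRotate 5, Equiv.Perm.mem_alternatingGroup.2 (by decide)⟩

/-- A three-cycle. -/
def three : alternatingGroup (Fin 5) :=
  ⟨Equiv.swap 0 2 * Equiv.swap 0 3, Equiv.Perm.mem_alternatingGroup.2 (by decide)⟩

theorem card_alt : Nat.card (alternatingGroup (Fin 5)) = 60 := by
  rw [nat_card_alternatingGroup, Nat.card_fin]; rfl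

theorem closure_three_five : closure ({three, five} : Set (alternatingGroup (Fin 5))) = ⊤ := by
  set K := closure ({three, five} : Set (alternatingGroup (Fin 5)))
  have hm0 : three ∈ K := subset_closure (Or.inl rfl)
  have hm1 : five ∈ K := subset_closure (Or.inr rfl)
  have h3 : orderOf three = 3 := orderOf_eq_prime (hp := ⟨Nat.prime_three⟩) (by decide) (by decide)
  have h5 : orderOf five = 5 := orderOf_eq_prime (hp := ⟨by norm_num⟩) (by decide) (by decide)
  have h2 : orderOf (three * five) = 2 := orderOf_eq_prime (hp := ⟨Nat.prime_two⟩) (by decide) (by decide)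
  have h30 : 30 ∣ Nat.card K := by
    have e2 := K.orderOf_dvd_natCard (mul_mem hm0 hm1)
    have e3 := K.orderOf_dvd_natCard hm0
    have e5 := K.orderOf_dvd_natCard hm1
    rw [h2] at e2; rw [h3] at e3; rw [h5] at e5
    omega
  haveI := alternatingGroup.isSimpleGroup (α := Fin 5) (by simp)
  have hi := K.card_mul_index
  rw [card_alt] at hi
  obtain ⟨k, hk⟩ := h30
  rw [hk, mul_assoc] at hi
  rcases (Nat.dvd_prime Nat.prime_two).1 (Dvd.intro_left k (show k * K.index = 2 by omega)) with e | e
  · exact index_eq_one.1 e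
  · exfalso
    rcases (normal_of_index_eq_two e).eq_bot_or_eq_top with h | h
    · rw [h, index_bot, card_alt] at e; norm_num at e
    · rw [h, index_top] at e; norm_num at e

theorem card_pairs_le : Fintype.card {p : alternatingGroup (Fin 5) × alternatingGroup (Fin 5) //
    p.1 ^ 3 = 1 ∧ p.1 ≠ 1 ∧ p.2 ^ 5 = 1 ∧ p.2 ≠ 1 ∧ (p.1 * p.2) ^ 2 = 1} ≤ 120 := by
  decide +kernel

theorem finite_mulAut : Finite (MulAut (alternatingGroup (Fin 5))) :=
  Finite.of_injective (fun f => (f : alternatingGroup (Fin 5) → alternatingGroup (Fin 5)))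
    fun _ _ e => MulEquiv.ext (congrFun e)

theorem card_mulAut_le : Nat.card (MulAut (alternatingGroup (Fin 5))) ≤ 120 := by
  refine le_trans ?_ (Nat.card_eq_fintype_card.le.trans card_pairs_le)
  let f : MulAut (alternatingGroup (Fin 5)) → {p : alternatingGroup (Fin 5) × alternatingGroup (Fin 5) //
      p.1 ^ 3 = 1 ∧ p.1 ≠ 1 ∧ p.2 ^ 5 = 1 ∧ p.2 ≠ 1 ∧ (p.1 * p.2) ^ 2 = 1} := fun φ =>
    ⟨(φ three, φ five), by
      refine ⟨?_, ?_, ?_, ?_, ?_⟩
      · rw [← map_pow, show three ^ 3 = 1 by decide, map_one]
      · exact fun e => absurd (φ.map_eq_one_iff.1 e) (by decide)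
      · rw [← map_pow, show five ^ 5 = 1 by decide, map_one]
      · exact fun e => absurd (φ.map_eq_one_iff.1 e) (by decide)
      · rw [← map_mul, ← map_pow, show (three * five) ^ 2 = 1 by decide, map_one]⟩
  refine Nat.card_le_card_of_injective f fun φ ψ e => ?_
  have e' := Prod.mk.injEq _ _ _ _ ▸ congrArg Subtype.val e
  have h : φ.toMonoidHom = ψ.toMonoidHom := MonoidHom.eq_of_eqOn_dense closure_three_five (by
    rintro x (rfl | rfl)
    · exact e'.1
    · exact e'.2)
  exact MulEquiv.ext fun x => DFunLike.congr_fun h x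

theorem center_alt : center (alternatingGroup (Fin 5)) = ⊥ := by
  have h : ∀ a : alternatingGroup (Fin 5), a * three = three * a → a * five = five * a → a = 1 := by
    decide +kernel
  exact (eq_bot_iff_forall _).2 fun a ha =>
    h a (mem_center_iff.1 ha three).symm (mem_center_iff.1 ha five).symm

theorem card_inner : Nat.card (MulAut.conj : alternatingGroup (Fin 5) →* _).range = 60 := by
  have hinj : Function.Injective (MulAut.conj : alternatingGroup (Fin 5) →* _) := by
    refine (injective_iff_map_eq_one _).2 fun a ha => mem_bot.1 (center_alt ▸ mem_center_iff.2 fun x => ?_)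
    exact (mul_inv_eq_iff_eq_mul.1 (DFunLike.congr_fun ha x : a * x * a⁻¹ = x)).symm
  rw [← Nat.card_congr (MonoidHom.ofInjective hinj).toEquiv, card_alt]

/-- The automorphism group of `A₅` is `S₅`. -/
theorem nonempty_perm_equiv : Nonempty (Equiv.Perm (Fin 5) ≃* MulAut (alternatingGroup (Fin 5))) := by
  haveI := finite_mulAut
  let f : Equiv.Perm (Fin 5) →* MulAut (alternatingGroup (Fin 5)) := MulAut.conjNormal
  have h : ∀ σ : Equiv.Perm (Fin 5), σ * (three : Equiv.Perm (Fin 5)) = three * σ →
      σ * (five : Equiv.Perm (Fin 5)) = five * σ → σ = 1 := by decide +kernel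
  have hinj : Function.Injective f := (injective_iff_map_eq_one f).2 fun σ hσ => by
    have hc : ∀ a : alternatingGroup (Fin 5), σ * (a : Equiv.Perm (Fin 5)) = a * σ := fun a => by
      have := congrArg Subtype.val (DFunLike.congr_fun hσ a)
      rw [MulAut.conjNormal_apply] at this
      exact mul_inv_eq_iff_eq_mul.1 this
    exact h σ (hc _) (hc _)
  refine ⟨MulEquiv.ofBijective f (hinj.bijective_of_nat_card_le ?_)⟩
  rw [Nat.card_eq_fintype_card (α := Equiv.Perm (Fin 5)), Fintype.card_perm, Fintype.card_fin]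
  exact card_mulAut_le.trans (by norm_num [Nat.factorial])

end Cfsg.Agent.Lib.Icosa
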